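import Mathlib
import Cfsg.Agent.Lib.Helper15.BGU.Nine5
import Cfsg.Agent.Lib.Helper15.BGU.Conn2
import Cfsg.Agent.Lib.Helper55.BGHall
import Cfsg.Agent.Lib.Helper55.BGCyclic

/-!
# Basic tools for the prime action lemmas of BG section 13 (helper15)
-/

set_option autoImplicit false
set_option linter.unusedSectionVars false

namespace Cfsg.Agent.Helper15.BGV

open Cfsg Subgroup Cfsg.Agent.Helper52 Cfsg.Agent.Helper15.BGU

variable {G : Type*} [Group G]

/-- elements of `X ⊔ Y` when `Y` normalizes `X`. -/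
theorem mem_sup_decomp {X Y : Subgroup G} (h : Y ≤ normalizer (X : Set G)) {g : G}
    (hg : g ∈ X ⊔ Y) : ∃ x ∈ X, ∃ y ∈ Y, g = x * y := by
  have hXY : X ⊔ Y ≤ normalizer (X : Set G) := sup_le le_normalizer h
  haveI : (X.subgroupOf (X ⊔ Y)).Normal := by
    rw [← Subgroup.normalizer_eq_top_iff]
    rw [eq_top_iff]
    intro z _
    rw [Subgroup.mem_normalizer_iff]
    intro w
    have hz := hXY z.2
    rw [Subgroup.mem_normalizer_iff] at hz
    simp only [Subgroup.mem_subgroupOf]
    exact hz w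
  have hsup : X.subgroupOf (X ⊔ Y) ⊔ Y.subgroupOf (X ⊔ Y) = ⊤ := by
    rw [← Subgroup.subgroupOf_sup le_sup_left le_sup_right]
    exact Subgroup.subgroupOf_self _
  have hmem : (⟨g, hg⟩ : ↥(X ⊔ Y)) ∈
      ((X.subgroupOf (X ⊔ Y) ⊔ Y.subgroupOf (X ⊔ Y) : Subgroup ↥(X ⊔ Y)) : Set ↥(X ⊔ Y)) := by
    rw [hsup]; exact Subgroup.mem_top _
  rw [Subgroup.normal_mul] at hmem
  obtain ⟨x, hx, y, hy, hxy⟩ := Set.mem_mul.mp hmem
  refine ⟨x, hx, y, hy, ?_⟩
  have := congrArg Subtype.val hxy
  simpa using this.symm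

/-- `S` centralizes `Q` as soon as `S` lies in a subgroup `N` normalized by `Q` and disjoint from
`Q`, and `S` normalizes `Q`. -/
theorem le_centralizer_of_disjoint {S Q N : Subgroup G} (hSN : S ≤ N)
    (hQN : Q ≤ normalizer (N : Set G)) (hSQ : S ≤ normalizer (Q : Set G)) (hd : Q ⊓ N = ⊥) :
    S ≤ centralizer (Q : Set G) := by
  intro s hs
  rw [Subgroup.mem_centralizer_iff]
  intro x hx
  have h1 : x * s * x⁻¹ * s⁻¹ ∈ N := by
    have hxN := hQN hx
    rw [Subgroup.mem_normalizer_iff] at hxN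
    exact N.mul_mem ((hxN s).mp (hSN hs)) (N.inv_mem (hSN hs))
  have h2 : x * s * x⁻¹ * s⁻¹ ∈ Q := by
    have hsQ := hSQ hs
    rw [Subgroup.mem_normalizer_iff] at hsQ
    have : s * x⁻¹ * s⁻¹ ∈ Q := (hsQ x⁻¹).mp (Q.inv_mem hx)
    have h3 : x * s * x⁻¹ * s⁻¹ = x * (s * x⁻¹ * s⁻¹) := by group
    rw [h3]
    exact Q.mul_mem hx this
  have h3 : x * s * x⁻¹ * s⁻¹ ∈ Q ⊓ N := ⟨h2, h1⟩
  rw [hd, Subgroup.mem_bot] at h3
  have h4 : x * s = s * x := by
    have : x * s = (x * s * x⁻¹ * s⁻¹) * (s * x) := by group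
    rw [this, h3, one_mul]
  exact h4

variable [Finite G]

/-- coprime subgroups are disjoint. -/
theorem inf_eq_bot_of_coprime_card {A B : Subgroup G} (h : (Nat.card A).Coprime (Nat.card B)) :
    A ⊓ B = ⊥ := by
  have h1 : Nat.card (A ⊓ B : Subgroup G) ∣ Nat.card A := Subgroup.card_dvd_of_le inf_le_left
  have h2 : Nat.card (A ⊓ B : Subgroup G) ∣ Nat.card B := Subgroup.card_dvd_of_le inf_le_right
  have := Nat.eq_one_of_dvd_coprimes h h1 h2
  exact Subgroup.card_eq_one.mp this

/-- Sylow-wise criterion for a coprime operator group to act trivially. -/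
theorem le_centralizer_of_sylowwise {A K : Subgroup G} (hAK : A ≤ normalizer (K : Set G))
    (hcop : (Nat.card A).Coprime (Nat.card K)) (hsolv : Group.IsSolvable A ∨ Group.IsSolvable K)
    (h : ∀ (q : ℕ) [Fact q.Prime] (Q : Subgroup G), Q ≤ K → IsPGroup q Q →
      A ≤ normalizer (Q : Set G) → A ≤ centralizer (Q : Set G)) :
    A ≤ centralizer (K : Set G) := by
  have hdvd : Nat.card K ∣ Nat.card (K ⊓ centralizer (A : Set G) : Subgroup G) := by
    rw [Nat.dvd_iff_prime_pow_dvd_dvd]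
    intro q k hq hqk
    haveI := Fact.mk hq
    obtain ⟨Q, hQK, hQc, hAQ⟩ := exists_invariant_sylow A K hAK hcop hsolv q
    have hQq : IsPGroup q Q := IsPGroup.of_card hQc
    have hAC := h q Q hQK hQq hAQ
    have hQle : Q ≤ K ⊓ centralizer (A : Set G) := by
      refine le_inf hQK ?_
      intro x hx
      rw [Subgroup.mem_centralizer_iff]
      intro a ha
      have := hAC ha
      rw [Subgroup.mem_centralizer_iff] at this
      exact (this x hx).symm
    have h1 : q ^ k ∣ sylCard q K := by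
      unfold sylCard
      apply Nat.pow_dvd_pow
      have hK0 : Nat.card K ≠ 0 := Nat.card_pos.ne'
      exact (hq.pow_dvd_iff_le_factorization hK0).mp hqk
    rw [← hQc] at h1
    exact h1.trans (Subgroup.card_dvd_of_le hQle)
  have hle : K ⊓ centralizer (A : Set G) ≤ K := inf_le_left
  have heq : K ⊓ centralizer (A : Set G) = K := by
    apply Subgroup.eq_of_le_of_card_ge hle
    exact Nat.le_of_dvd Nat.card_pos hdvd
  intro a ha
  rw [Subgroup.mem_centralizer_iff]
  intro x hx
  have hx' : x ∈ K ⊓ centralizer (A : Set G) := by rw [heq]; exact hx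
  have : x ∈ centralizer (A : Set G) := hx'.2
  rw [Subgroup.mem_centralizer_iff] at this
  exact (this a ha).symm

/-- an elementary abelian subgroup of order exactly `p ^ 2` inside a larger one. -/
theorem exists_elemAb_sq {p : ℕ} [hp : Fact p.Prime] {F : Subgroup G}
    (hF : IsElementaryAbelian p F) (hc : p < Nat.card F) :
    ∃ A : Subgroup G, A ≤ F ∧ IsElementaryAbelian p A ∧ Nat.card A = p ^ 2 := by
  have hFp : IsPGroup p F := isPGroup_of_isElementaryAbelian hF
  obtain ⟨n, hn⟩ := IsPGroup.iff_card.mp hFp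
  have hn2 : 2 ≤ n := by
    by_contra hlt
    have hle : n ≤ 1 := by omega
    have : Nat.card F ≤ p ^ 1 := by
      rw [hn]; exact Nat.pow_le_pow_right hp.out.pos hle
    rw [pow_one] at this
    omega
  have hdvd : p ^ 2 ∣ Nat.card F := by rw [hn]; exact Nat.pow_dvd_pow p hn2
  obtain ⟨A', hA'⟩ := Sylow.exists_subgroup_card_pow_prime p hdvd
  refine ⟨A'.map F.subtype, Subgroup.map_subtype_le _, ?_, ?_⟩
  · exact isElementaryAbelian_of_le hF (Subgroup.map_subtype_le _)
  · rw [Subgroup.card_map_of_injective F.subtype_injective]; exact hA'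

end Cfsg.Agent.Helper15.BGV
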