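import Mathlib
import Cfsg.Agent.Lib.Helper15.BGV.Basic

/-!
# `σ(M)`-bookkeeping inside `G` (helper15)
-/

set_option autoImplicit false
set_option linter.unusedSectionVars false

namespace Cfsg.Agent.Helper15.BGV

open Cfsg Subgroup Cfsg.Agent.Helper52 Cfsg.Agent.Helper15.BGU

variable {G : Type*} [Group G] [Finite G]

/-- for `q ∈ σ(M)` every Sylow `q`-subgroup of `M` has its normalizer in `M`. -/
theorem normalizer_le_of_mem_sigma {M : Subgroup G} {q : ℕ} [Fact q.Prime] (hq : q ∈ sigma M)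
    {Q : Subgroup G} (hQM : Q ≤ M) (hQ : Nat.card Q = sylCard q M) :
    normalizer (Q : Set G) ≤ M := by
  obtain ⟨P, hP⟩ := hq.2.2
  have hc : Nat.card ((P : Subgroup M).map M.subtype) = sylCard q M := card_sylow_map q M P
  obtain ⟨k, hk, hkQ⟩ := exists_conj_of_card q M _ Q (Subgroup.map_subtype_le _) hQM hc hQ
  rw [hkQ]
  exact normalizer_map_conj_le hk hP

/-- ... and is a Sylow subgroup of `G`. -/
theorem card_eq_sylCard_top_of_mem_sigma {M : Subgroup G} {q : ℕ} [Fact q.Prime]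
    (hq : q ∈ sigma M) {Q : Subgroup G} (hQM : Q ≤ M) (hQ : Nat.card Q = sylCard q M) :
    Nat.card Q = sylCard q (⊤ : Subgroup G) := by
  apply syl_upgrade q (R := Q) (H := ⊤) (M' := M) le_top
  · rw [top_inf_eq]; exact hQ
  · exact inf_le_left.trans (normalizer_le_of_mem_sigma hq hQM hQ)

/-- existence of a Sylow `q`-subgroup of `M` (inside `G`). -/
theorem exists_syl (q : ℕ) [Fact q.Prime] (M : Subgroup G) :
    ∃ Q : Subgroup G, Q ≤ M ∧ Nat.card Q = sylCard q M := by
  obtain ⟨P, -, hPM, hP⟩ := exists_syl_ge q (Q := (⊥ : Subgroup G)) (K := M)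
    (IsPGroup.of_bot) bot_le
  exact ⟨P, hPM, hP⟩

/-- the `q`-part of `M_σ` for `q ∈ σ(M)`. -/
theorem sylCard_sigmaCore {M : Subgroup G} {q : ℕ} [hqf : Fact q.Prime]
    (hHall : IsPiHallOf (sigma M) (sigmaCore M) M) (hq : q ∈ sigma M) :
    sylCard q (sigmaCore M) = sylCard q M := by
  obtain ⟨Q, hQM, hQ⟩ := exists_syl q M
  obtain ⟨R, hRM, hR⟩ := exists_syl q (sigmaCore M)
  have hQp : IsPGroup q Q := IsPGroup.of_card hQ
  have hRp : IsPGroup q R := IsPGroup.of_card hR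
  have h1 : Q ≤ sigmaCore M :=
    Cfsg.Agent.Helper55.BGB.le_sigmaCore_of_isPGroup hqf.out hHall hq hQM hQp
  have h2 : Nat.card Q ≤ sylCard q (sigmaCore M) := card_le_sylCard q hQp h1
  have h3 : Nat.card R ≤ sylCard q M := card_le_sylCard q hRp (hRM.trans hHall.1)
  rw [hQ] at h2
  rw [hR] at h3
  exact le_antisymm h3 h2

/-- a maximal subgroup with a normal Sylow `q`-subgroup, `q ∈ σ(M)`, is conjugate to `M`. -/
theorem eq_conj_of_normal_sylow (hG : IsMinSimpleOddOrder G) {M H : Subgroup G}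
    (hM : IsCoatom M) (hH : IsCoatom H) {q : ℕ} [Fact q.Prime] (hq : q ∈ sigma M)
    {QH : Subgroup G} (hQH : QH ≤ H) (hc : Nat.card QH = sylCard q H)
    (hn : H ≤ normalizer (QH : Set G)) (h1 : QH ≠ ⊥) :
    ∃ g : G, H = M.map (MulAut.conj g).toMonoidHom := by
  haveI := hG.2.1
  have hQt : QH ≠ ⊤ := by
    intro h
    apply hH.1
    rw [eq_top_iff, ← h]; exact hQH
  have hN : normalizer (QH : Set G) ≠ ⊤ :=
    Cfsg.Agent.Helper54.normalizer_ne_top_of_isSimpleGroup QH h1 hQt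
  have hNH : normalizer (QH : Set G) = H := by
    rcases hH.le_iff.mp hn with h | h
    · exact absurd h hN
    · exact h
  have hcT : Nat.card QH = sylCard q (⊤ : Subgroup G) := by
    apply syl_upgrade q (R := QH) (H := ⊤) (M' := H) le_top
    · rw [top_inf_eq]; exact hc
    · rw [hNH]; exact inf_le_left
  obtain ⟨QM, hQM, hQMc⟩ := exists_syl q M
  have hNM := normalizer_le_of_mem_sigma hq hQM hQMc
  have hcM := card_eq_sylCard_top_of_mem_sigma hq hQM hQMc
  obtain ⟨g, -, hg⟩ := exists_conj_of_card q ⊤ QM QH le_top le_top hcM hcT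
  refine ⟨g, ?_⟩
  have h2 : normalizer (QH : Set G) = (normalizer (QM : Set G)).map (MulAut.conj g).toMonoidHom := by
    rw [hg]
    exact (Subgroup.map_equiv_normalizer_eq QM (MulAut.conj g)).symm
  have h3 : H ≤ M.map (MulAut.conj g).toMonoidHom := by
    rw [← hNH, h2]
    exact Subgroup.map_mono hNM
  rcases hH.le_iff.mp h3 with h | h
  · exfalso
    apply hM.1
    have : Nat.card (M.map (MulAut.conj g).toMonoidHom) = Nat.card M := card_conj g M
    rw [h, Subgroup.card_top] at this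
    exact (Subgroup.card_eq_iff_eq_top M).mp this.symm
  · exact h.symm

/-- `β`-membership transfers to any maximal subgroup for which `q` is a `σ`-prime. -/
theorem mem_beta_of_mem_beta {M H : Subgroup G} {q : ℕ} [Fact q.Prime] (hq : q ∈ sigma M)
    (hβ : q ∈ beta H) : q ∈ beta M := by
  refine ⟨⟨hβ.1.1, ?_⟩, hβ.2⟩
  obtain ⟨F, -, hFe, hFc⟩ := exists_of_not_pRankLE hβ.1.2
  have hFp : IsPGroup q F := isPGroup_of_isElementaryAbelian hFe
  obtain ⟨P, hFP, -, hPc⟩ := exists_syl_ge q (K := (⊤ : Subgroup G)) hFp le_top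
  obtain ⟨QM, hQM, hQMc⟩ := exists_syl q M
  have hcM := card_eq_sylCard_top_of_mem_sigma hq hQM hQMc
  obtain ⟨g, -, hg⟩ := exists_conj_of_card q ⊤ P QM le_top le_top hPc hcM
  have hle : F.map (MulAut.conj g).toMonoidHom ≤ M := by
    refine le_trans ?_ hQM
    rw [hg]
    exact Subgroup.map_mono hFP
  apply not_pRankLE_of_le hle (isElementaryAbelian_conj hFe g)
  rw [card_conj]
  exact hFc

/-- a subgroup of order `q` in a nontrivial `q`-group. -/
theorem exists_card_prime_le {q : ℕ} [hq : Fact q.Prime] {Q : Subgroup G} (hQ : IsPGroup q Q)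
    (h1 : Q ≠ ⊥) : ∃ X : Subgroup G, X ≤ Q ∧ Nat.card X = q := by
  have hc1 : Nat.card Q ≠ 1 := fun h => h1 (Subgroup.card_eq_one.mp h)
  obtain ⟨n, hn⟩ := IsPGroup.iff_card.mp hQ
  have hn0 : n ≠ 0 := by
    rintro rfl
    exact hc1 (by rw [hn, pow_zero])
  have hdvd : q ∣ Nat.card Q := by rw [hn]; exact dvd_pow_self q hn0
  obtain ⟨a, ha⟩ := exists_prime_orderOf_dvd_card' (G := Q) q hdvd
  refine ⟨Subgroup.zpowers (a : G), ?_, ?_⟩
  · rw [Subgroup.zpowers_le]; exact a.2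
  · rw [Nat.card_zpowers, Subgroup.orderOf_coe]; exact ha

/-- `q` divides the order of any group containing a nontrivial `q`-subgroup. -/
theorem dvd_card_of_le {q : ℕ} [hq : Fact q.Prime] {Q K : Subgroup G} (hQ : IsPGroup q Q)
    (h1 : Q ≠ ⊥) (hQK : Q ≤ K) : q ∣ Nat.card K := by
  obtain ⟨X, hXQ, hX⟩ := exists_card_prime_le hQ h1
  rw [← hX]
  exact Subgroup.card_dvd_of_le (hXQ.trans hQK)

end Cfsg.Agent.Helper15.BGV
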