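import Mathlib
import Cfsg.Agent.Lib.Helper15.BGV.Sigma
import Cfsg.Agent.Lib.Helper54.Transitivity
import Cfsg.Agent.Lib.Helper23.FittingHall
import Cfsg.Agent.Lib.Helper55.BGFit

/-!
# More tools for BG section 13 (helper15): normal complements, the kernel `cstar`, conjugation
-/

set_option autoImplicit false
set_option linter.unusedSectionVars false

namespace Cfsg.Agent.Helper15.BGV

open Cfsg Subgroup Cfsg.Agent.Helper52 Cfsg.Agent.Helper15.BGU

variable {G : Type*} [Group G]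

theorem le_normalizer_of_conj_mem {A K : Subgroup G}
    (h : ∀ a ∈ A, ∀ k ∈ K, a * k * a⁻¹ ∈ K) : A ≤ normalizer (K : Set G) := by
  intro a ha
  rw [Subgroup.mem_normalizer_iff]
  intro k
  constructor
  · exact h a ha k
  · intro hk
    have := h a⁻¹ (A.inv_mem ha) _ hk
    have e : a⁻¹ * (a * k * a⁻¹) * a⁻¹⁻¹ = k := by group
    rwa [e] at this

theorem conj_mem_of_mem_normalizer {K : Subgroup G} {a k : G}
    (ha : a ∈ normalizer (K : Set G)) (hk : k ∈ K) : a * k * a⁻¹ ∈ K :=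
  (Subgroup.mem_normalizer_iff.mp ha k).mp hk

/-- commutators landing in a subgroup meeting `T` trivially force centralization. -/
theorem le_centralizer_of_comm_mem {A T K : Subgroup G}
    (hc : ∀ a ∈ A, ∀ t ∈ T, a * t * a⁻¹ * t⁻¹ ∈ K) (hAT : A ≤ normalizer (T : Set G))
    (hd : T ⊓ K = ⊥) : A ≤ centralizer (T : Set G) := by
  intro a ha
  rw [Subgroup.mem_centralizer_iff]
  intro t ht
  have h1 : a * t * a⁻¹ * t⁻¹ ∈ T :=
    T.mul_mem (conj_mem_of_mem_normalizer (hAT ha) ht) (T.inv_mem ht)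
  have h2 : a * t * a⁻¹ * t⁻¹ ∈ T ⊓ K := ⟨h1, hc a ha t ht⟩
  rw [hd, Subgroup.mem_bot] at h2
  have : a * t = (a * t * a⁻¹ * t⁻¹) * (t * a) := by group
  rw [this, h2, one_mul]

/-- the elements of `N(K)` acting trivially on `K A / K`. -/
def cstar (K A : Subgroup G) : Subgroup G where
  carrier := {g | g ∈ normalizer (K : Set G) ∧ ∀ a ∈ A, g * a * g⁻¹ * a⁻¹ ∈ K}
  one_mem' := ⟨Subgroup.one_mem _, fun a _ => by simp [K.one_mem]⟩
  mul_mem' := by
    rintro g g' ⟨hg, hga⟩ ⟨hg', hg'a⟩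
    refine ⟨Subgroup.mul_mem _ hg hg', fun a ha => ?_⟩
    have e : g * g' * a * (g * g')⁻¹ * a⁻¹ =
        g * (g' * a * g'⁻¹ * a⁻¹) * g⁻¹ * (g * a * g⁻¹ * a⁻¹) := by group
    rw [e]
    exact K.mul_mem (conj_mem_of_mem_normalizer hg (hg'a a ha)) (hga a ha)
  inv_mem' := by
    rintro g ⟨hg, hga⟩
    refine ⟨Subgroup.inv_mem _ hg, fun a ha => ?_⟩
    have e : g⁻¹ * a * g⁻¹⁻¹ * a⁻¹ = g⁻¹ * (g * a * g⁻¹ * a⁻¹)⁻¹ * g⁻¹⁻¹ := by group
    rw [e]
    exact conj_mem_of_mem_normalizer (Subgroup.inv_mem _ hg) (K.inv_mem (hga a ha))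

theorem mem_cstar_iff {K A : Subgroup G} {g : G} :
    g ∈ cstar K A ↔ g ∈ normalizer (K : Set G) ∧ ∀ a ∈ A, g * a * g⁻¹ * a⁻¹ ∈ K := Iff.rfl

theorem cstar_le_normalizer (K A : Subgroup G) : cstar K A ≤ normalizer (K : Set G) :=
  fun _ hg => hg.1

theorem le_cstar_self {K A : Subgroup G} (hAK : A ≤ normalizer (K : Set G)) : K ≤ cstar K A := by
  intro g hg
  refine ⟨Subgroup.le_normalizer hg, fun a ha => ?_⟩
  have e : g * a * g⁻¹ * a⁻¹ = g * (a * g⁻¹ * a⁻¹) := by group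
  rw [e]
  exact K.mul_mem hg (conj_mem_of_mem_normalizer (hAK ha) (K.inv_mem hg))

theorem le_cstar_of_commute {K A S : Subgroup G} (hSK : S ≤ normalizer (K : Set G))
    (hSA : ∀ s ∈ S, ∀ a ∈ A, s * a = a * s) : S ≤ cstar K A := by
  intro s hs
  refine ⟨hSK hs, fun a ha => ?_⟩
  have e : s * a * s⁻¹ * a⁻¹ = 1 := by
    rw [hSA s hs a ha]; group
  rw [e]; exact K.one_mem

/-- conjugates (by elements normalizing `K` and `K ⊔ A`) of elements commuting with `A`
lie in `cstar`. -/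
theorem conj_mem_cstar {K A : Subgroup G} (hAK : A ≤ normalizer (K : Set G)) {x s : G}
    (hxK : x ∈ normalizer (K : Set G)) (hxKA : x ∈ normalizer ((K ⊔ A : Subgroup G) : Set G))
    (hsK : s ∈ normalizer (K : Set G)) (hsA : ∀ a ∈ A, s * a = a * s) :
    x * s * x⁻¹ ∈ cstar K A := by
  refine ⟨Subgroup.mul_mem _ (Subgroup.mul_mem _ hxK hsK) (Subgroup.inv_mem _ hxK), fun a ha => ?_⟩
  have ha' : x⁻¹ * a * x⁻¹⁻¹ ∈ K ⊔ A :=
    conj_mem_of_mem_normalizer (Subgroup.inv_mem _ hxKA) (le_sup_right (a := K) ha)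
  obtain ⟨h, hh, b, hb, hhb⟩ := mem_sup_decomp hAK ha'
  have ea : a = x * (h * b) * x⁻¹ := by rw [← hhb]; group
  have hsb : s * b * s⁻¹ = b := by rw [hsA b hb]; group
  have e1 : x * s * x⁻¹ * a * (x * s * x⁻¹)⁻¹ * a⁻¹ =
      x * ((s * h * s⁻¹) * (s * b * s⁻¹) * b⁻¹ * h⁻¹) * x⁻¹ := by
    rw [ea]; group
  rw [e1, hsb]
  have e2 : s * h * s⁻¹ * b * b⁻¹ * h⁻¹ = (s * h * s⁻¹) * h⁻¹ := by group
  rw [e2]
  exact conj_mem_of_mem_normalizer hxK
    (K.mul_mem (conj_mem_of_mem_normalizer hsK hh) (K.inv_mem hh))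

/-- the other commutator also lies in `K`. -/
theorem comm_mem_of_mem_cstar {K A : Subgroup G} {g a : G} (hg : g ∈ cstar K A) (ha : a ∈ A) :
    a * g * a⁻¹ * g⁻¹ ∈ K := by
  have := K.inv_mem (hg.2 a ha)
  have e : (g * a * g⁻¹ * a⁻¹)⁻¹ = a * g * a⁻¹ * g⁻¹ := by group
  rwa [e] at this

/-- `A` normalizes `K ⊔ T` when `T` lies in `cstar K A`. -/
theorem le_normalizer_sup_of_le_cstar {K A T : Subgroup G} (hAK : A ≤ normalizer (K : Set G))
    (hT : T ≤ cstar K A) : A ≤ normalizer ((K ⊔ T : Subgroup G) : Set G) := by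
  apply le_normalizer_of_conj_mem
  intro a ha k hk
  obtain ⟨h, hh, t, ht, rfl⟩ := mem_sup_decomp (hT.trans (cstar_le_normalizer K A)) hk
  have e : a * (h * t) * a⁻¹ = (a * h * a⁻¹) * (a * t * a⁻¹ * t⁻¹) * t := by group
  rw [e]
  refine Subgroup.mul_mem _ (Subgroup.mul_mem _ ?_ ?_) (le_sup_right (a := K) ht)
  · exact le_sup_left (b := T) (conj_mem_of_mem_normalizer (hAK ha) hh)
  · exact le_sup_left (b := T) (comm_mem_of_mem_cstar (hT ht) ha)

/-- transporting centralization back along a conjugation. -/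
theorem map_conj_inv_le_centralizer {A T : Subgroup G} {k : G}
    (h : A ≤ centralizer ((T.map (MulAut.conj k).toMonoidHom : Subgroup G) : Set G)) :
    A.map (MulAut.conj k⁻¹).toMonoidHom ≤ centralizer (T : Set G) := by
  rintro _ ⟨a, ha, rfl⟩
  rw [Subgroup.mem_centralizer_iff]
  intro t ht
  have h1 := h ha
  rw [Subgroup.mem_centralizer_iff] at h1
  have h2 : k * t * k⁻¹ * a = a * (k * t * k⁻¹) := by
    apply h1
    exact ⟨t, ht, by simp⟩
  simp only [MulEquiv.coe_toMonoidHom, MulAut.conj_apply, inv_inv]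
  have e1 : t * (k⁻¹ * a * k) = k⁻¹ * (k * t * k⁻¹ * a) * k := by group
  rw [e1, h2]; group

/-- transporting normalization back along a conjugation. -/
theorem map_conj_inv_le_normalizer {A Y : Subgroup G} {k : G}
    (h : A ≤ normalizer ((Y.map (MulAut.conj k).toMonoidHom : Subgroup G) : Set G)) :
    A.map (MulAut.conj k⁻¹).toMonoidHom ≤ normalizer (Y : Set G) := by
  rintro _ ⟨a, ha, rfl⟩
  have h1 := h ha
  rw [← Subgroup.map_equiv_normalizer_eq Y (MulAut.conj k)] at h1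
  have h2 := (mem_map_conj (g := k) (x := a) (H := normalizer (Y : Set G))).mp h1
  simpa using h2

variable [Finite G]

/-- the data of a normal `q`-complement of a subgroup `K` of `G`, inside `G`. -/
theorem exists_normal_compl {q : ℕ} [hq : Fact q.Prime] {K : Subgroup G}
    (h : HasNormalPComplement q ↥K) :
    ∃ N : Subgroup G, N ≤ K ∧ K ≤ normalizer (N : Set G) ∧ (Nat.card N).Coprime q ∧
      ∀ R : Subgroup G, R ≤ K → (Nat.card R).Coprime q → R ≤ N := by
  obtain ⟨P, N, hN, hc⟩ := h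
  haveI := hN
  have hcard : Nat.card N * Nat.card (P : Subgroup K) = Nat.card K := hc.card_mul
  obtain ⟨n, hn⟩ := IsPGroup.iff_card.mp P.isPGroup'
  have hidx : N.index = q ^ n := by
    have h1 := Subgroup.card_mul_index N
    rw [← hcard] at h1
    have hpos : 0 < Nat.card N := Nat.card_pos
    have := Nat.eq_of_mul_eq_mul_left hpos h1
    rw [this, hn]
  have hNcop : (Nat.card N).Coprime q := by
    rw [Nat.coprime_comm, Nat.Prime.coprime_iff_not_dvd hq.out]
    intro hdvd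
    -- then `q ^ (n+1)` divides `|K|`, contradicting Sylow
    have h2 : q ^ (n + 1) ∣ Nat.card K := by
      rw [← hcard, hn, pow_succ']
      exact Nat.mul_dvd_mul hdvd (dvd_refl _)
    have h3 := P.pow_dvd_card_of_pow_dvd_card h2
    rw [hn] at h3
    have := Nat.pow_dvd_pow_iff_le_right hq.out.one_lt |>.mp h3
    omega
  refine ⟨N.map K.subtype, Subgroup.map_subtype_le _,
    Cfsg.Agent.Helper55.BGB.le_normalizer_map_subtype K N, ?_, ?_⟩
  · rw [Subgroup.card_map_of_injective K.subtype_injective]; exact hNcop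
  · intro R hRK hRq x hx
    have hxK : x ∈ K := hRK hx
    refine ⟨⟨x, hxK⟩, ?_, rfl⟩
    have h1 : (⟨x, hxK⟩ : ↥K) ^ Nat.card R = 1 := by
      apply Subtype.ext
      have h0 : ((⟨x, hx⟩ : ↥R) ^ Nat.card R : ↥R) = 1 := pow_card_eq_one'
      have h2 := congrArg Subtype.val h0
      simpa only [Subgroup.coe_pow, Subgroup.coe_one] using h2
    have h3 : (QuotientGroup.mk' N (⟨x, hxK⟩ : ↥K)) ^ Nat.card R = 1 := by
      rw [← map_pow, h1, map_one]
    have h4 : (QuotientGroup.mk' N (⟨x, hxK⟩ : ↥K)) ^ (q ^ n) = 1 := by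
      rw [← hidx, Subgroup.index_eq_card]
      exact pow_card_eq_one'
    have h5 := pow_gcd_eq_one.mpr ⟨h3, h4⟩
    have h6 : (Nat.card R).gcd (q ^ n) = 1 := Nat.Coprime.pow_right n hRq
    rw [h6, pow_one] at h5
    exact (QuotientGroup.eq_one_iff _).mp h5

/-- in a nilpotent `K ⊴ H` the Sylow `q`-subgroup is normalized by `H`. -/
theorem exists_normal_sylow_of_nilpotent {K H : Subgroup G} (hK : Group.IsNilpotent ↥K)
    (hHK : H ≤ normalizer (K : Set G)) (q : ℕ) [Fact q.Prime] :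
    ∃ QH : Subgroup G, QH ≤ K ∧ Nat.card QH = sylCard q K ∧ H ≤ normalizer (QH : Set G) := by
  obtain ⟨P⟩ : Nonempty (Sylow q ↥K) := inferInstance
  haveI := hK
  have hPn : (P : Subgroup ↥K).Normal := inferInstance
  have hle : (P : Subgroup ↥K).map K.subtype ≤ K := Subgroup.map_subtype_le _
  have hc : Nat.card ((P : Subgroup ↥K).map K.subtype) = sylCard q K := card_sylow_map q K P
  have hKn : K ≤ normalizer (((P : Subgroup ↥K).map K.subtype : Subgroup G) : Set G) :=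
    Cfsg.Agent.Helper55.BGB.le_normalizer_map_subtype K (P : Subgroup ↥K)
  refine ⟨_, hle, hc, ?_⟩
  intro h hh
  apply Helper52.mem_normalizer_of_map_conj_eq
  have h1 : ((P : Subgroup ↥K).map K.subtype).map (MulAut.conj h).toMonoidHom ≤ K :=
    map_conj_le_of_le_normalizer hle (hHK hh)
  have h2 : Nat.card (((P : Subgroup ↥K).map K.subtype).map (MulAut.conj h).toMonoidHom) =
      sylCard q K := by rw [card_map_conj]; exact hc
  obtain ⟨k, hk, hkQ⟩ := exists_conj_of_card q K _ _ hle h1 hc h2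
  rw [hkQ]
  exact map_conj_eq_of_mem_normalizer (hKn hk)

/-- a `q`-subgroup whose index in `L` is prime to `q` is a Sylow subgroup of `L`. -/
theorem card_eq_sylCard_of_not_dvd_relIndex {q : ℕ} [hq : Fact q.Prime] {S L : Subgroup G}
    (hSL : S ≤ L) (hS : IsPGroup q S) (hnd : ¬ q ∣ S.relIndex L) :
    Nat.card S = sylCard q L := by
  apply le_antisymm (card_le_sylCard q hS hSL)
  have h1 : Nat.card S * S.relIndex L = Nat.card L := card_mul_relIndex_eq hSL
  have h2 : sylCard q L ∣ Nat.card S * S.relIndex L := by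
    rw [h1]; unfold sylCard; exact Nat.ordProj_dvd _ _
  have h3 : (sylCard q L).Coprime (S.relIndex L) := by
    unfold sylCard
    exact Nat.Coprime.pow_left _ ((Nat.Prime.coprime_iff_not_dvd hq.out).mpr hnd)
  exact Nat.le_of_dvd Nat.card_pos (h3.dvd_of_dvd_mul_right h2)

/-- a Sylow `q`-subgroup of `K` (as an actual `Sylow`) containing a given `q`-subgroup. -/
theorem exists_sylow_ge {q : ℕ} [hq : Fact q.Prime] {T K : Subgroup G} (hT : IsPGroup q T)
    (hTK : T ≤ K) : ∃ S : Sylow q ↥K, T ≤ (S : Subgroup ↥K).map K.subtype := by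
  obtain ⟨P, hTP, hPK, hPc⟩ := exists_syl_ge q hT hTK
  obtain ⟨S, hS⟩ := exists_sylow_of_card q K P hPK hPc
  exact ⟨S, by rw [hS]; exact hTP⟩

/-- under coprime action some `K`-conjugate of `A` normalizes a given Sylow subgroup of `K`. -/
theorem exists_conj_le_normalizer (A K : Subgroup G) (hAK : A ≤ normalizer (K : Set G))
    (hcop : (Nat.card A).Coprime (Nat.card K))
    (hsolv : Group.IsSolvable A ∨ Group.IsSolvable K) (q : ℕ) [Fact q.Prime] (Y : Subgroup G)
    (hYK : Y ≤ K) (hY : Nat.card Y = sylCard q K) :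
    ∃ k ∈ K, A.map (MulAut.conj k).toMonoidHom ≤ normalizer (Y : Set G) := by
  obtain ⟨Q', hQ'K, hQ'c, hAQ'⟩ := exists_invariant_sylow A K hAK hcop hsolv q
  obtain ⟨k, hk, hkQ⟩ := exists_conj_of_card q K Y Q' hYK hQ'K hY hQ'c
  refine ⟨k⁻¹, K.inv_mem hk, ?_⟩
  apply map_conj_inv_le_normalizer
  rw [← hkQ]; exact hAQ'

/-- a `p`-subgroup of `L` is `L`-conjugate into any given Sylow `p`-subgroup of `L`. -/
theorem exists_conj_le_sylow {p : ℕ} [hp : Fact p.Prime] {A L R : Subgroup G} (hA : IsPGroup p A)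
    (hAL : A ≤ L) (hRL : R ≤ L) (hR : Nat.card R = sylCard p L) :
    ∃ l ∈ L, A.map (MulAut.conj l).toMonoidHom ≤ R := by
  obtain ⟨P, hAP, hPL, hPc⟩ := exists_syl_ge p hA hAL
  obtain ⟨k, hk, hkR⟩ := exists_conj_of_card p L P R hPL hRL hPc hR
  exact ⟨k, hk, by rw [hkR]; exact Subgroup.map_mono hAP⟩

end Cfsg.Agent.Helper15.BGV
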