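import Mathlib
import Cfsg.Agent.Lib.Helper15.BGV.Tools
import Cfsg.Agent.Lib.Helper96.BGU2
import Cfsg.Agent.S1350
import Cfsg.Agent.S1405
import Cfsg.Agent.S1409
import Cfsg.Agent.S1414
import Cfsg.Agent.S1417
import Cfsg.Agent.S1420
import Cfsg.Agent.S1423
import Cfsg.Agent.S1424

/-!
# The core lemma behind BG section 13 (prime action), first half (helper15)
-/

set_option autoImplicit false
set_option linter.unusedSectionVars false

namespace Cfsg.Agent.Helper15.BGV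

open Cfsg Subgroup Cfsg.Agent.Helper52 Cfsg.Agent.Helper15.BGU Cfsg.Agent.Helper55.BGB

variable {G : Type*} [Group G] [Finite G]

theorem hallOf (hG : IsMinSimpleOddOrder G) {K : Subgroup G} (hK : IsCoatom K) :
    IsPiHallOf (sigma K) (sigmaCore K) K := (Cfsg.Agent.S1350.result hG K hK).1

theorem solv_of_le_coatom (hG : IsMinSimpleOddOrder G) {K H : Subgroup G} (hH : IsCoatom H)
    (hKH : K ≤ H) : Group.IsSolvable ↥K := by
  apply hG.2.2.2
  intro h
  apply hH.1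
  rw [eq_top_iff, ← h]; exact hKH

theorem normalizer_ne_top_of_le_coatom (hG : IsMinSimpleOddOrder G) {X M : Subgroup G}
    (hM : IsCoatom M) (hXM : X ≤ M) (hX1 : X ≠ ⊥) : normalizer (X : Set G) ≠ ⊤ := by
  haveI := hG.2.1
  apply Cfsg.Agent.Helper54.normalizer_ne_top_of_isSimpleGroup X hX1
  intro h
  apply hM.1
  rw [eq_top_iff, ← h]; exact hXM

theorem map_conj_inv_map_conj (K : Subgroup G) (g : G) :
    (K.map (MulAut.conj g).toMonoidHom).map (MulAut.conj g⁻¹).toMonoidHom = K := by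
  ext x
  rw [mem_map_conj, mem_map_conj]
  simp only [inv_inv]
  have e : g⁻¹ * (g * x * g⁻¹) * g = x := by group
  rw [e]

theorem map_conj_one (K : Subgroup G) : K.map (MulAut.conj (1 : G)).toMonoidHom = K := by
  ext x
  rw [mem_map_conj]
  simp

theorem not_dvd_card_sigmaCore {H : Subgroup G} {p : ℕ} (hp : p.Prime) (h : p ∉ sigma H) :
    ¬ p ∣ Nat.card (sigmaCore H) :=
  fun hd => h (isPi_sigmaCore H p hp hd)

theorem coprime_of_isPGroup_not_dvd {q : ℕ} [hq : Fact q.Prime] {Q K : Subgroup G}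
    (hQ : IsPGroup q Q) (h : ¬ q ∣ Nat.card K) : (Nat.card Q).Coprime (Nat.card K) := by
  obtain ⟨k, hk⟩ := IsPGroup.iff_card.mp hQ
  rw [hk]
  exact Nat.Coprime.pow_left k ((Nat.Prime.coprime_iff_not_dvd hq.out).mpr h)

theorem isPGroup_of_card_prime {p : ℕ} [hp : Fact p.Prime] {X : Subgroup G}
    (hX : Nat.card X = p) : IsPGroup p X :=
  IsPGroup.of_card (n := 1) (by rw [hX, pow_one])

theorem ne_bot_of_card_prime {p : ℕ} [hp : Fact p.Prime] {X : Subgroup G}
    (hX : Nat.card X = p) : X ≠ ⊥ := by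
  intro h
  rw [h, Subgroup.card_bot] at hX
  exact hp.out.one_lt.ne hX

/-- a `q`-subgroup `T` normalizing `K`, with `q ∤ |K|`, is a Sylow `q`-subgroup of `K ⊔ T`. -/
theorem card_eq_sylCard_sup {q : ℕ} [hq : Fact q.Prime] {K T : Subgroup G}
    (hTK : T ≤ normalizer (K : Set G)) (hT : IsPGroup q T) (hqK : ¬ q ∣ Nat.card K) :
    Nat.card T = sylCard q (K ⊔ T) := by
  apply card_eq_sylCard_of_not_dvd_relIndex le_sup_right hT
  intro hd
  apply hqK
  have h1 : Nat.card T * T.relIndex (K ⊔ T) = Nat.card (K ⊔ T : Subgroup G) :=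
    card_mul_relIndex_eq le_sup_right
  have h2 : Nat.card (K ⊔ T : Subgroup G) ∣ Nat.card K * Nat.card T :=
    Cfsg.Agent.Helper54.card_sup_dvd_of_le_normalizer K T hTK
  rw [← h1, mul_comm (Nat.card K)] at h2
  have h3 : T.relIndex (K ⊔ T) ∣ Nat.card K :=
    Nat.dvd_of_mul_dvd_mul_left Nat.card_pos h2
  exact hd.trans h3

/-- coprimality of `A` (a `p`-group) with `K ⊔ T`. -/
theorem coprime_card_sup {p : ℕ} [hp : Fact p.Prime] {A K T : Subgroup G} (hA : IsPGroup p A)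
    (hTK : T ≤ normalizer (K : Set G)) (hpK : ¬ p ∣ Nat.card K) (hpT : ¬ p ∣ Nat.card T) :
    (Nat.card A).Coprime (Nat.card (K ⊔ T : Subgroup G)) := by
  apply coprime_of_isPGroup_not_dvd hA
  intro hd
  have h2 : Nat.card (K ⊔ T : Subgroup G) ∣ Nat.card K * Nat.card T :=
    Cfsg.Agent.Helper54.card_sup_dvd_of_le_normalizer K T hTK
  rcases (Nat.Prime.dvd_mul hp.out).mp (hd.trans h2) with h | h
  · exact hpK h
  · exact hpT h

theorem not_dvd_card_of_isPGroup_ne {p q : ℕ} [hp : Fact p.Prime] [hq : Fact q.Prime]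
    (hpq : p ≠ q) {T : Subgroup G} (hT : IsPGroup q T) : ¬ p ∣ Nat.card T := by
  obtain ⟨k, hk⟩ := IsPGroup.iff_card.mp hT
  rw [hk]
  intro hd
  exact hpq ((Nat.prime_dvd_prime_iff_eq hp.out hq.out).mp (hp.out.dvd_of_dvd_pow hd))

/-- **Step 1**: a maximal subgroup containing `N_G(X)` is not conjugate to `M`. -/
theorem not_conj_of_rank_one (hG : IsMinSimpleOddOrder G) {M H : Subgroup G} (hM : IsCoatom M)
    {p : ℕ} [hp : Fact p.Prime] (hpM : p ∉ sigma M)
    (hrk : ∀ A : Subgroup G, A ≤ M → IsElementaryAbelian p A → Nat.card A ≠ p ^ 2)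
    {X : Subgroup G} (hX : Nat.card X = p) (hNX : normalizer (X : Set G) ≤ H) :
    ∀ g : G, H ≠ M.map (MulAut.conj g).toMonoidHom := by
  intro g hHg
  have hN : normalizer ((X.map (MulAut.conj g⁻¹).toMonoidHom : Subgroup G) : Set G) ≤ M := by
    rw [← Subgroup.map_equiv_normalizer_eq X (MulAut.conj g⁻¹)]
    calc (normalizer (X : Set G)).map (MulAut.conj g⁻¹).toMonoidHom
        ≤ (M.map (MulAut.conj g).toMonoidHom).map (MulAut.conj g⁻¹).toMonoidHom :=
          Subgroup.map_mono (hHg ▸ hNX)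
      _ = M := map_conj_inv_map_conj M g
  have h9 := Cfsg.Agent.S1409.result hG M hM p hpM _ (by rw [card_conj]; exact hX) hN
  obtain ⟨F, hFM, hFe, hFc⟩ := exists_of_not_pRankLE h9.1.2
  rw [pow_one] at hFc
  obtain ⟨A, hAF, hAe, hAc⟩ := exists_elemAb_sq hFe hFc
  exact hrk A (hAF.trans hFM) hAe hAc

/-- a common `σ`-prime of two distinct maximal subgroups sharing a nontrivial `q`-subgroup is not
in `β`. -/
theorem not_mem_beta_of_ne (hG : IsMinSimpleOddOrder G) {M H : Subgroup G} (hM : IsCoatom M)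
    (hH : IsCoatom H) (hne : H ≠ M) {q : ℕ} [Fact q.Prime] (hqM : q ∈ sigma M)
    (hqH : q ∈ sigma H) {Q : Subgroup G} (hQ : IsPGroup q Q) (hQ1 : Q ≠ ⊥) (hQM : Q ≤ M)
    (hQH : Q ≤ H) : q ∉ beta H := by
  intro hβ
  have hβM := mem_beta_of_mem_beta hqM hβ
  obtain ⟨Xq, hXqQ, hXq⟩ := exists_card_prime_le hQ hQ1
  obtain ⟨PM⟩ : Nonempty (Sylow q ↥(sigmaCore M)) := inferInstance
  obtain ⟨PH⟩ : Nonempty (Sylow q ↥(sigmaCore H)) := inferInstance
  have h1 := (Cfsg.Agent.S1423.result hG M hM q hqM Xq (hXqQ.trans hQM) hXq PM (Or.inl hβM)).1.2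
  have h2 := (Cfsg.Agent.S1423.result hG H hH q hqH Xq (hXqQ.trans hQH) hXq PH (Or.inl hβ)).1.1
  exact hne (h1 H hH h2)

/-- **Case `p ∈ σ(H)`**. -/
theorem case_sigma (hG : IsMinSimpleOddOrder G) {M H : Subgroup G} (hM : IsCoatom M)
    (hH : IsCoatom H) (hne : H ≠ M) {p q : ℕ} [hp : Fact p.Prime] [hq : Fact q.Prime]
    (hpq : p ≠ q) (hpH : p ∈ sigma H) (hqM : q ∈ sigma M) {S Q : Subgroup G}
    (hS : IsPGroup p S) (hSH : S ≤ H) (hQ : IsPGroup q Q) (hQM : Q ≤ M) (hQH : Q ≤ H)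
    (hSQ : S ≤ normalizer (Q : Set G)) : S ≤ centralizer (Q : Set G) := by
  have hHall := hallOf hG hH
  have hSσ : S ≤ sigmaCore H := le_sigmaCore_of_isPGroup hp.out hHall hpH hSH hS
  by_cases hqH : q ∈ sigma H
  · by_cases hQ1 : Q = ⊥
    · rw [hQ1]
      intro s _
      rw [Subgroup.mem_centralizer_iff]
      intro x hx
      have hx1 : x = 1 := by simpa using hx
      rw [hx1]; simp
    have hQσ : Q ≤ sigmaCore H := le_sigmaCore_of_isPGroup hq.out hHall hqH hQH hQ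
    have hnβ := not_mem_beta_of_ne hG hM hH hne hqM hqH hQ hQ1 hQM hQH
    have h14 := (Cfsg.Agent.S1414.result hG H hH).2.2.2.2 q hq.out hqH.2.1 hnβ
    obtain ⟨N, hNK, hKN, hNq, hNall⟩ := exists_normal_compl h14.2.1
    have hSN : S ≤ N := hNall S hSσ (coprime_of_isPGroup_ne (p := q) hp.out hpq hS)
    have hd : Q ⊓ N = ⊥ := by
      apply inf_eq_bot_of_coprime_card
      apply coprime_of_isPGroup_not_dvd hQ
      intro hdv
      exact (Nat.Prime.coprime_iff_not_dvd hq.out).mp hNq.symm hdv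
    exact le_centralizer_of_disjoint hSN (hQσ.trans hKN) hSQ hd
  · have hd : Q ⊓ sigmaCore H = ⊥ := by
      apply inf_eq_bot_of_coprime_card
      exact coprime_of_isPGroup_not_dvd hQ (not_dvd_card_sigmaCore hq.out hqH)
    exact le_centralizer_of_disjoint hSσ (hQH.trans (le_normalizer_sigmaCore H)) hSQ hd

/-- **Case `p ∈ τ₂(H)`, `q ∈ σ(H)`** is impossible when `H` is not conjugate to `M`. -/
theorem tau2_sigma_false (hG : IsMinSimpleOddOrder G) {M H : Subgroup G} (hM : IsCoatom M)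
    (hH : IsCoatom H) (hnc : ∀ g : G, H ≠ M.map (MulAut.conj g).toMonoidHom) {p q : ℕ}
    [hp : Fact p.Prime] [hq : Fact q.Prime] (hpH : p ∈ tau2 H) (hqM : q ∈ sigma M)
    (hqH : q ∈ sigma H) : False := by
  have hHall := hallOf hG hH
  obtain ⟨F, hFH, hFe, hFc⟩ := exists_of_not_pRankLE hpH.2.2.2
  rw [pow_one] at hFc
  obtain ⟨A, hAF, hAe, hAc⟩ := exists_elemAb_sq hFe hFc
  have h17 := Cfsg.Agent.S1417.result hG H hH p hpH A ⟨hAF.trans hFH, hAe, hAc⟩
  obtain ⟨QH, hQK, hQc, hQn⟩ :=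
    exists_normal_sylow_of_nilpotent h17.1 (le_normalizer_sigmaCore H) q
  rw [sylCard_sigmaCore hHall hqH] at hQc
  have hQ1 : QH ≠ ⊥ := by
    intro h
    rw [h, Subgroup.card_bot] at hQc
    have h1 : q ∣ sylCard q H := by
      unfold sylCard
      apply dvd_pow_self
      exact (Nat.Prime.factorization_pos_of_dvd hq.out Nat.card_pos.ne' hqH.2.1).ne'
    rw [← hQc] at h1
    exact hq.out.one_lt.ne' (Nat.dvd_one.mp h1)
  obtain ⟨g, hg⟩ := eq_conj_of_normal_sylow hG hM hH hqM (hQK.trans (sigmaCore_le H)) hQc hQn hQ1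
  exact hnc g hg

end Cfsg.Agent.Helper15.BGV
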