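import Mathlib
import Cfsg.Agent.Lib.Helper15.BGV.Core

/-!
# The core lemma behind BG section 13 (prime action), second half (helper15)
-/

set_option autoImplicit false
set_option linter.unusedSectionVars false

namespace Cfsg.Agent.Helper15.BGV

open Cfsg Subgroup Cfsg.Agent.Helper52 Cfsg.Agent.Helper15.BGU Cfsg.Agent.Helper55.BGB

variable {G : Type*} [Group G] [Finite G]

/-- **Case `p ∈ τ₂(H)`, `q ∉ σ(H)`, local part**: an elementary abelian subgroup of order `p ^ 2`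
of `H` centralizing `[Q, S]`. -/
theorem exists_elemAb_centralizing (hG : IsMinSimpleOddOrder G) {H : Subgroup G}
    (hH : IsCoatom H) {p q : ℕ} [hp : Fact p.Prime] [hq : Fact q.Prime] (hpq : p ≠ q)
    (hpH : p ∈ tau2 H) (hqH : q ∉ sigma H) {S Q : Subgroup G} (hS : IsPGroup p S) (hSH : S ≤ H)
    (hQ : IsPGroup q Q) (hQH : Q ≤ H) (hSQ : S ≤ normalizer (Q : Set G)) :
    ∃ A₁ : Subgroup G, A₁ ≤ H ∧ IsElementaryAbelian p A₁ ∧ Nat.card A₁ = p ^ 2 ∧
      A₁ ≤ centralizer ((⁅Q, S⁆ : Subgroup G) : Set G) := by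
  obtain ⟨F, hFH, hFe, hFc⟩ := exists_of_not_pRankLE hpH.2.2.2
  rw [pow_one] at hFc
  obtain ⟨A, hAF, hAe, hAc⟩ := exists_elemAb_sq hFe hFc
  have hAH : A ≤ H := hAF.trans hFH
  obtain ⟨P₁, hSP⟩ := exists_sylow_ge hS hSH
  have hP₁H : (P₁ : Subgroup ↥H).map H.subtype ≤ H := Subgroup.map_subtype_le _
  obtain ⟨l, hl, hAl⟩ := exists_conj_le_sylow (isPGroup_of_isElementaryAbelian hAe) hAH hP₁H
    (card_sylow_map p H P₁)
  have hA₂e : IsElementaryAbelian p (A.map (MulAut.conj l).toMonoidHom) :=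
    isElementaryAbelian_conj hAe l
  have hA₂c : Nat.card (A.map (MulAut.conj l).toMonoidHom) = p ^ 2 := by
    rw [card_conj]; exact hAc
  have hA₂H : A.map (MulAut.conj l).toMonoidHom ≤ H := hAl.trans hP₁H
  generalize A.map (MulAut.conj l).toMonoidHom = A₂ at hAl hA₂e hA₂c hA₂H
  obtain ⟨-, hP, hnorm, -, -, -⟩ :=
    Cfsg.Agent.S1417.result hG H hH p hpH A₂ ⟨hA₂H, hA₂e, hA₂c⟩
  have hcomm : ∀ s ∈ S, ∀ a ∈ A₂, s * a = a * s := by
    intro s hs a ha
    obtain ⟨s', hs', rfl⟩ := hSP hs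
    obtain ⟨a', ha', rfl⟩ := hAl ha
    have hc := (hP P₁).1
    have h1 := hc.is_comm.comm (⟨s', hs'⟩ : ↥(P₁ : Subgroup ↥H)) ⟨a', ha'⟩
    have h2 := congrArg Subtype.val h1
    have h3 := congrArg Subtype.val h2
    simpa using h3
  have hKn : H ≤ normalizer (sigmaCore H : Set G) := le_normalizer_sigmaCore H
  have hAK : A₂ ≤ normalizer (sigmaCore H : Set G) := hA₂H.trans hKn
  have hTQ : ⁅Q, S⁆ ≤ Q := by
    rw [Subgroup.commutator_le]
    intro x hx s hs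
    rw [commutatorElement_def]
    have e : x * s * x⁻¹ * s⁻¹ = x * (s * x⁻¹ * s⁻¹) := by group
    rw [e]
    exact Q.mul_mem hx (conj_mem_of_mem_normalizer (hSQ hs) (Q.inv_mem hx))
  have hTC : ⁅Q, S⁆ ≤ cstar (sigmaCore H) A₂ := by
    rw [Subgroup.commutator_le]
    intro x hx s hs
    rw [commutatorElement_def]
    exact Subgroup.mul_mem _
      (conj_mem_cstar hAK (hKn (hQH hx)) (hnorm (hQH hx)) (hKn (hSH hs)) (hcomm s hs))
      (Subgroup.inv_mem _ (le_cstar_of_commute (hSH.trans hKn) hcomm hs))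
  have hTq : IsPGroup q (⁅Q, S⁆ : Subgroup G) := hQ.to_le hTQ
  have hTH : ⁅Q, S⁆ ≤ H := hTQ.trans hQH
  generalize (⁅Q, S⁆ : Subgroup G) = T at hTQ hTC hTq hTH ⊢
  have hTK : T ≤ normalizer (sigmaCore H : Set G) := hTH.trans hKn
  have hnormKT : A₂ ≤ normalizer ((sigmaCore H ⊔ T : Subgroup G) : Set G) :=
    le_normalizer_sup_of_le_cstar hAK hTC
  have hpK : ¬ p ∣ Nat.card (sigmaCore H) := not_dvd_card_sigmaCore hp.out hpH.2.1
  have hqK : ¬ q ∣ Nat.card (sigmaCore H) := not_dvd_card_sigmaCore hq.out hqH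
  have hA₂p : IsPGroup p A₂ := isPGroup_of_isElementaryAbelian hA₂e
  have hcop : (Nat.card A₂).Coprime (Nat.card (sigmaCore H ⊔ T : Subgroup G)) :=
    coprime_card_sup hA₂p hTK hpK (not_dvd_card_of_isPGroup_ne hpq hTq)
  have hKTH : sigmaCore H ⊔ T ≤ H := sup_le (sigmaCore_le H) hTH
  have hsolv : Group.IsSolvable ↥A₂ ∨ Group.IsSolvable ↥(sigmaCore H ⊔ T : Subgroup G) :=
    Or.inr (solv_of_le_coatom hG hH hKTH)
  have hTc : Nat.card T = sylCard q (sigmaCore H ⊔ T) := card_eq_sylCard_sup hTK hTq hqK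
  obtain ⟨T', hT'K, hT'c, hAT'⟩ := exists_invariant_sylow A₂ (sigmaCore H ⊔ T) hnormKT hcop hsolv q
  obtain ⟨k, hk, hkT⟩ := exists_conj_of_card q (sigmaCore H ⊔ T) T T' le_sup_right hT'K hTc hT'c
  have hsupC : sigmaCore H ⊔ T ≤ cstar (sigmaCore H) A₂ := sup_le (le_cstar_self hAK) hTC
  have hT'q : IsPGroup q T' := isPGroup_of_card_sylCard q hT'c
  have hT'd : T' ⊓ sigmaCore H = ⊥ :=
    inf_eq_bot_of_coprime_card (coprime_of_isPGroup_not_dvd hT'q hqK)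
  have hcen : A₂ ≤ centralizer (T' : Set G) :=
    le_centralizer_of_comm_mem (fun a ha t ht => comm_mem_of_mem_cstar (hsupC (hT'K ht)) ha)
      hAT' hT'd
  rw [hkT] at hcen
  exact ⟨A₂.map (MulAut.conj k⁻¹).toMonoidHom, map_conj_le_of_mem (H.inv_mem (hKTH hk)) hA₂H,
    isElementaryAbelian_conj hA₂e _, by rw [card_conj]; exact hA₂c,
    map_conj_inv_le_centralizer hcen⟩

end Cfsg.Agent.Helper15.BGV
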