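import Mathlib
import Cfsg.Agent.Lib.Helper15.BGV.Core2

/-!
# The core lemma behind BG section 13 (prime action), global part (helper15)
-/

set_option autoImplicit false
set_option linter.unusedSectionVars false

namespace Cfsg.Agent.Helper15.BGV

open Cfsg Subgroup Cfsg.Agent.Helper52 Cfsg.Agent.Helper15.BGU Cfsg.Agent.Helper55.BGB

variable {G : Type*} [Group G] [Finite G]

/-- **Global part**: a nontrivial `q`-subgroup `T` of `M` (`q ∈ σ(M)`) cannot be centralized by an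
elementary abelian `p`-subgroup of order `p ^ 2` together with a subgroup of order `p` of `M`, when
`M` has `p`-rank one and `p` is not ideal. -/
theorem global_false (hG : IsMinSimpleOddOrder G) {M : Subgroup G} (hM : IsCoatom M)
    {E : Subgroup G} (hE : IsComplIn E (sigmaCore M) M) {p q : ℕ} [hp : Fact p.Prime]
    [hq : Fact q.Prime] (hpq : p ≠ q)
    (hrk : ∀ A : Subgroup G, A ≤ M → IsElementaryAbelian p A → Nat.card A ≠ p ^ 2)
    (hni : ¬ IsIdealPrime p G) (hqM : q ∈ sigma M) {T X A₁ : Subgroup G} (hTq : IsPGroup q T)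
    (hT1 : T ≠ ⊥) (hTM : T ≤ M) (hX : Nat.card X = p) (hXM : X ≤ M)
    (hXT : X ≤ centralizer (T : Set G)) (hA₁ : IsElementaryAbelian p A₁)
    (hA₁c : Nat.card A₁ = p ^ 2) (hA₁T : A₁ ≤ centralizer (T : Set G)) : False := by
  have hA₁p : IsPGroup p A₁ := isPGroup_of_isElementaryAbelian hA₁
  have hcontra : ∀ g : G, ¬ A₁.map (MulAut.conj g).toMonoidHom ≤ M := fun g hle =>
    hrk _ hle (isElementaryAbelian_conj hA₁ g) (by rw [card_conj]; exact hA₁c)
  obtain ⟨L, hL, hNL⟩ := exists_coatom_ge (normalizer_ne_top_of_le_coatom hG hM hTM hT1)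
  have hCN : centralizer (T : Set G) ≤ L := (Subgroup.centralizer_le_normalizer _).trans hNL
  have hA₁L : A₁ ≤ L := hA₁T.trans hCN
  have hXL : X ≤ L := hXT.trans hCN
  have hTL : T ≤ L := Subgroup.le_normalizer.trans hNL
  have hLM : L ≠ M := by
    intro h
    apply hcontra 1
    rw [map_conj_one, ← h]; exact hA₁L
  obtain ⟨Sq, hTSq⟩ := exists_sylow_ge hTq (le_inf hTM hTL)
  obtain ⟨-, hNS, hnd⟩ :=
    Cfsg.Agent.S1424.result hG M hM q hqM T hTq hT1 hTM L hL hLM hNL Sq hTSq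
  have hSq'ML : (Sq : Subgroup ↥(M ⊓ L)).map (M ⊓ L).subtype ≤ M ⊓ L := Subgroup.map_subtype_le _
  have hSq'q : IsPGroup q ((Sq : Subgroup ↥(M ⊓ L)).map (M ⊓ L).subtype) :=
    isPGroup_of_card_sylCard q (card_sylow_map q (M ⊓ L) Sq)
  generalize (Sq : Subgroup ↥(M ⊓ L)).map (M ⊓ L).subtype = Sq' at hTSq hNS hnd hSq'ML hSq'q
  have hSq'M : Sq' ≤ M := hSq'ML.trans inf_le_left
  have hSq'L : Sq' ≤ L := hSq'ML.trans inf_le_right
  have hSq'c : Nat.card Sq' = sylCard q L := card_eq_sylCard_of_not_dvd_relIndex hSq'L hSq'q hnd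
  have hHallL := hallOf hG hL
  have hKn : L ≤ normalizer (sigmaCore L : Set G) := le_normalizer_sigmaCore L
  have hqL : q ∣ Nat.card L := dvd_card_of_le hTq hT1 hTL
  by_cases hqσ : q ∈ sigma L
  · -- `q ∈ σ(L)`
    have hnβ : q ∉ beta L := not_mem_beta_of_ne hG hM hL hLM hqM hqσ hTq hT1 hTM hTL
    have hSq'σ : Sq' ≤ sigmaCore L := le_sigmaCore_of_isPGroup hq.out hHallL hqσ hSq'L hSq'q
    have hSq'cσ : Nat.card Sq' = sylCard q (sigmaCore L) := by
      rw [sylCard_sigmaCore hHallL hqσ]; exact hSq'c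
    by_cases hpσ : p ∈ sigma L
    · have hpnβ : p ∉ beta L := fun h => hni h.2
      have hpL : p ∣ Nat.card L := hpσ.2.1
      have h14 := (Cfsg.Agent.S1414.result hG L hL).2.2.2.2
      obtain ⟨Nq, hNqK, hKNq, hNqq, hNqall⟩ := exists_normal_compl (h14 q hq.out hqL hnβ).2.1
      obtain ⟨Np, hNpK, hKNp, hNpp, hNpall⟩ := exists_normal_compl (h14 p hp.out hpL hpnβ).2.1
      have hact : Sq' ≤ normalizer (Nq : Set G) := hSq'σ.trans hKNq
      have hcop : (Nat.card Sq').Coprime (Nat.card Nq) := by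
        apply coprime_of_isPGroup_not_dvd hSq'q
        intro hd
        exact (Nat.Prime.coprime_iff_not_dvd hq.out).mp hNqq.symm hd
      have hsolv : Group.IsSolvable ↥Sq' ∨ Group.IsSolvable ↥Nq :=
        Or.inr (solv_of_le_coatom hG hL (hNqK.trans (sigmaCore_le L)))
      obtain ⟨Rp, hRpN, hRpc, hSR⟩ := exists_invariant_sylow Sq' Nq hact hcop hsolv p
      have hRpp : IsPGroup p Rp := isPGroup_of_card_sylCard p hRpc
      have hRpσ : Rp ≤ sigmaCore L := hRpN.trans hNqK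
      have hRpL : Rp ≤ L := hRpσ.trans (sigmaCore_le L)
      have hRpcL : Nat.card Rp = sylCard p L := by
        obtain ⟨PL, hPLσ, hPLc⟩ := exists_syl p (sigmaCore L)
        have hPLp : IsPGroup p PL := isPGroup_of_card_sylCard p hPLc
        have hPLN : PL ≤ Nq := hNqall PL hPLσ (coprime_of_isPGroup_ne (p := q) hp.out hpq hPLp)
        have h1 : Nat.card PL ≤ sylCard p Nq := card_le_sylCard p hPLp hPLN
        have h2 : Nat.card Rp ≤ sylCard p (sigmaCore L) := card_le_sylCard p hRpp hRpσ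
        have h3 : Nat.card Rp = sylCard p (sigmaCore L) :=
          le_antisymm h2 (by rw [hRpc, ← hPLc]; exact h1)
        rw [h3, sylCard_sigmaCore hHallL hpσ]
      have hSNp : Sq' ≤ Np :=
        hNpall Sq' hSq'σ (coprime_of_isPGroup_ne (p := p) hq.out hpq.symm hSq'q)
      have hd : Rp ⊓ Np = ⊥ := by
        apply inf_eq_bot_of_coprime_card
        apply coprime_of_isPGroup_not_dvd hRpp
        intro hdv
        exact (Nat.Prime.coprime_iff_not_dvd hp.out).mp hNpp.symm hdv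
      have hcen : Sq' ≤ centralizer (Rp : Set G) :=
        le_centralizer_of_disjoint hSNp (hRpσ.trans hKNp) hSR hd
      have hRpM : Rp ≤ M := by
        have h1 : Rp ≤ centralizer (Sq' : Set G) := Subgroup.le_centralizer_iff.mp hcen
        exact (h1.trans (Subgroup.centralizer_le_normalizer _)).trans hNS
      obtain ⟨l, -, hl⟩ := exists_conj_le_sylow hA₁p hA₁L hRpL hRpcL
      exact hcontra l (hl.trans hRpM)
    · have hcop : (Nat.card A₁).Coprime (Nat.card (sigmaCore L)) :=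
        coprime_of_isPGroup_not_dvd hA₁p (not_dvd_card_sigmaCore hp.out hpσ)
      have hsolv : Group.IsSolvable ↥A₁ ∨ Group.IsSolvable ↥(sigmaCore L) :=
        Or.inr (solv_of_le_coatom hG hL (sigmaCore_le L))
      obtain ⟨k, -, hk⟩ := exists_conj_le_normalizer A₁ (sigmaCore L) (hA₁L.trans hKn) hcop hsolv
        q Sq' hSq'σ hSq'cσ
      exact hcontra k (hk.trans hNS)
  · -- `q ∉ σ(L)`
    have hnc : ¬ IsCyclic ↥Sq' := by
      intro hcyc
      apply hqσ
      refine ⟨hq.out, hqL, ?_⟩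
      obtain ⟨P, hP⟩ := exists_sylow_of_card q L Sq' hSq'L hSq'c
      refine ⟨P, ?_⟩
      rw [hP]
      intro g hg
      apply hNL
      apply Cfsg.Agent.Helper52.mem_normalizer_of_map_conj_eq
      apply map_conj_eq_of_le_cyclic hcyc hTSq g
      calc T.map (MulAut.conj g).toMonoidHom ≤ Sq'.map (MulAut.conj g).toMonoidHom :=
            Subgroup.map_mono hTSq
        _ = Sq' := map_conj_eq_of_mem_normalizer hg
    have hT1c : 1 < Nat.card T := by
      rcases Nat.lt_or_ge 1 (Nat.card T) with h | h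
      · exact h
      · exfalso
        apply hT1
        apply Subgroup.card_eq_one.mp
        have : 0 < Nat.card T := Nat.card_pos
        omega
    have hq2 : q ≠ 2 := p_ne_two_of_odd hG.1 hTq hT1c
    obtain ⟨F, hFS, hFe, hFc⟩ :=
      Cfsg.Agent.Helper96.BGU.exists_elemAb_of_not_isCyclic hq2 Sq' hSq'q hnc
    rw [pow_one] at hFc
    obtain ⟨Aq, hAqF, hAqe, hAqc⟩ := exists_elemAb_sq hFe hFc
    have hAqS : Aq ≤ Sq' := hAqF.trans hFS
    have hAqL : Aq ≤ L := hAqS.trans hSq'L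
    have hAqM : Aq ≤ M := hAqS.trans hSq'M
    have hqq : q < q ^ 2 := by
      have := hq.out.one_lt
      nlinarith
    have hlt : q ^ 1 < Nat.card Aq := by rw [hAqc, pow_one]; exact hqq
    have h05 := Cfsg.Agent.S1405.result hG L hL
    have hτ2 : q ∈ tau2 L :=
      ⟨hq.out, hqσ, prankLE_two_of_not_mem_sigma hq.out h05.1 h05.2.2.1 hqσ,
        not_pRankLE_of_le hAqL hAqe hlt⟩
    obtain ⟨-, -, hc, -, he, -⟩ :=
      Cfsg.Agent.S1417.result hG L hL q hτ2 Aq ⟨hAqL, hAqe, hAqc⟩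
    have hbot : sigmaCore L ⊓ M = ⊥ := he M hM (Ne.symm hLM) hAqM
    by_cases hpσ : p ∈ sigma L
    · have hXσ : X ≤ sigmaCore L :=
        le_sigmaCore_of_isPGroup hp.out hHallL hpσ hXL (isPGroup_of_card_prime hX)
      have hXb : X ≤ ⊥ := hbot ▸ le_inf hXσ hXM
      exact ne_bot_of_card_prime hX (le_bot_iff.mp hXb)
    · have hAqq : IsPGroup q Aq := isPGroup_of_isElementaryAbelian hAqe
      have hAqK : Aq ≤ normalizer (sigmaCore L : Set G) := hAqL.trans hKn
      have hpK := not_dvd_card_sigmaCore hp.out hpσ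
      have hqK := not_dvd_card_sigmaCore hq.out hqσ
      have hcop := coprime_card_sup hA₁p hAqK hpK (not_dvd_card_of_isPGroup_ne hpq hAqq)
      have hsolv : Group.IsSolvable ↥A₁ ∨ Group.IsSolvable ↥(sigmaCore L ⊔ Aq : Subgroup G) :=
        Or.inr (solv_of_le_coatom hG hL (sup_le (sigmaCore_le L) hAqL))
      obtain ⟨k, -, hk⟩ := exists_conj_le_normalizer A₁ (sigmaCore L ⊔ Aq) (hA₁L.trans hc) hcop
        hsolv q Aq le_sup_right (card_eq_sylCard_sup hAqK hAqq hqK)
      have hNAq : normalizer (Aq : Set G) ≤ M :=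
        (Cfsg.Agent.S1420.result hG M hM E hE).2.2.1 q Aq hqM hAqq hAqM
          (not_isCyclic_of_isElementaryAbelian hAqe (by rw [hAqc]; exact hqq))
      exact hcontra k (hk.trans hNAq)

/-- **Core lemma** (BG 13.1(a) in the rank one situation). -/
theorem core_h15 (hG : IsMinSimpleOddOrder G) {M : Subgroup G} (hM : IsCoatom M) {E : Subgroup G}
    (hE : IsComplIn E (sigmaCore M) M) {p q : ℕ} [hp : Fact p.Prime] [hq : Fact q.Prime]
    (hpM : p ∉ sigma M)
    (hrk : ∀ A : Subgroup G, A ≤ M → IsElementaryAbelian p A → Nat.card A ≠ p ^ 2)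
    {X S Q : Subgroup G} (hX : Nat.card X = p) (hXS : X ≤ S) (hSM : S ≤ M) (hS : IsPGroup p S)
    (hSX : S ≤ centralizer (X : Set G)) (hQ : IsPGroup q Q) (hQσ : Q ≤ sigmaCore M)
    (hQX : Q ≤ centralizer (X : Set G)) (hSQ : S ≤ normalizer (Q : Set G)) :
    S ≤ centralizer (Q : Set G) := by
  by_cases hQ1 : Q = ⊥
  · rw [hQ1]
    intro s _
    rw [Subgroup.mem_centralizer_iff]
    intro x hx
    have hx1 : x = 1 := by simpa using hx
    rw [hx1]; simp
  have hQM : Q ≤ M := hQσ.trans (sigmaCore_le M)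
  have hqM : q ∈ sigma M :=
    isPi_sigmaCore M q hq.out (dvd_card_of_le hQ hQ1 hQσ)
  have hpq : p ≠ q := fun h => hpM (h ▸ hqM)
  have hXM : X ≤ M := hXS.trans hSM
  have hX1 : X ≠ ⊥ := ne_bot_of_card_prime hX
  obtain ⟨H, hH, hNH⟩ := exists_coatom_ge (normalizer_ne_top_of_le_coatom hG hM hXM hX1)
  have hnc := not_conj_of_rank_one hG hM hpM hrk hX hNH
  have hHM : H ≠ M := by
    intro h
    apply hnc 1
    rw [map_conj_one]; exact h
  have hCH : centralizer (X : Set G) ≤ H := (Subgroup.centralizer_le_normalizer _).trans hNH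
  have hSH : S ≤ H := hSX.trans hCH
  have hQH : Q ≤ H := hQX.trans hCH
  by_cases hpH : p ∈ sigma H
  · exact case_sigma hG hM hH hHM hpq hpH hqM hS hSH hQ hQM hQH hSQ
  obtain ⟨⟨h2, h1⟩, hni, -⟩ := Cfsg.Agent.S1409.result hG H hH p hpH X hX hNH
  have hτ2 : p ∈ tau2 H := ⟨hp.out, hpH, h2, h1⟩
  by_cases hqH : q ∈ sigma H
  · exact (tau2_sigma_false hG hM hH hnc hτ2 hqM hqH).elim
  by_contra hne
  obtain ⟨A₁, -, hA₁e, hA₁c, hA₁T⟩ :=
    exists_elemAb_centralizing hG hH hpq hτ2 hqH hS hSH hQ hQH hSQ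
  have hT1 : (⁅Q, S⁆ : Subgroup G) ≠ ⊥ := by
    intro h
    apply hne
    rw [Subgroup.commutator_eq_bot_iff_le_centralizer] at h
    exact Subgroup.le_centralizer_iff.mp h
  have hTQ : ⁅Q, S⁆ ≤ Q := by
    rw [Subgroup.commutator_le]
    intro x hx s hs
    rw [commutatorElement_def]
    have e : x * s * x⁻¹ * s⁻¹ = x * (s * x⁻¹ * s⁻¹) := by group
    rw [e]
    exact Q.mul_mem hx (conj_mem_of_mem_normalizer (hSQ hs) (Q.inv_mem hx))
  have hTX : ⁅Q, S⁆ ≤ centralizer (X : Set G) := by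
    rw [Subgroup.commutator_le]
    intro x hx s hs
    rw [commutatorElement_def]
    exact Subgroup.mul_mem _ (Subgroup.mul_mem _ (Subgroup.mul_mem _ (hQX hx) (hSX hs))
      (Subgroup.inv_mem _ (hQX hx))) (Subgroup.inv_mem _ (hSX hs))
  exact global_false hG hM hE hpq hrk hni hqM (hQ.to_le hTQ) hT1 (hTQ.trans hQM) hX hXM
    (Subgroup.le_centralizer_iff.mp hTX) hA₁e hA₁c hA₁T

end Cfsg.Agent.Helper15.BGV
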