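import Mathlib
import Cfsg.Agent.Lib.Helper15.BGV.Core3

/-!
# BG 13.3: cyclic Sylow subgroups of a complement act in a prime manner (helper15)
-/

set_option autoImplicit false
set_option linter.unusedSectionVars false

namespace Cfsg.Agent.Helper15.BGV

open Cfsg Subgroup Cfsg.Agent.Helper52 Cfsg.Agent.Helper15.BGU Cfsg.Agent.Helper55.BGB

variable {G : Type*} [Group G] [Finite G]

/-- primes dividing the order of a complement of `M_σ` are not in `σ(M)`. -/
theorem not_mem_sigma_of_dvd_card_compl (hG : IsMinSimpleOddOrder G) {M : Subgroup G}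
    (hM : IsCoatom M) {E : Subgroup G} (hE : IsComplIn E (sigmaCore M) M) {p : ℕ}
    (hp : p.Prime) (hpE : p ∣ Nat.card E) : p ∉ sigma M := by
  intro h
  have hHall := hallOf hG hM
  have h1 : ¬ p ∣ (sigmaCore M).relIndex M := hHall.2.2 p hp h
  have h2 : Nat.card (sigmaCore M) * (sigmaCore M).relIndex M = Nat.card M :=
    card_mul_relIndex_eq (sigmaCore_le M)
  have h3 : Nat.card M = Nat.card E * Nat.card (sigmaCore M) :=
    Cfsg.Agent.Helper23.card_of_isComplIn hE
  rw [h3, mul_comm (Nat.card E)] at h2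
  have h4 : (sigmaCore M).relIndex M = Nat.card E :=
    Nat.eq_of_mul_eq_mul_left Nat.card_pos h2
  rw [h4] at h1
  exact h1 hpE

/-- a Sylow `p`-subgroup of a complement `E` of `M_σ` is a Sylow `p`-subgroup of `M`
(for `p ∤ |M_σ|`). -/
theorem sylCard_compl {M E : Subgroup G} (hE : IsComplIn E (sigmaCore M) M) {p : ℕ}
    [hp : Fact p.Prime] (hpK : ¬ p ∣ Nat.card (sigmaCore M)) : sylCard p E = sylCard p M := by
  have h3 : Nat.card M = Nat.card E * Nat.card (sigmaCore M) :=
    Cfsg.Agent.Helper23.card_of_isComplIn hE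
  unfold sylCard
  rw [h3, Nat.factorization_mul Nat.card_pos.ne' Nat.card_pos.ne']
  simp only [Finsupp.coe_add, Pi.add_apply]
  rw [Nat.factorization_eq_zero_of_not_dvd hpK, add_zero]

theorem prime_action_cyclic (hG : IsMinSimpleOddOrder G) {M : Subgroup G} (hM : IsCoatom M)
    {E : Subgroup G} (hE : IsComplIn E (sigmaCore M) M) {p : ℕ} [hp : Fact p.Prime]
    {S' : Subgroup G} (hS'E : S' ≤ E) (hS'c : Nat.card S' = sylCard p E) (hS'1 : S' ≠ ⊥)
    (hcyc : IsCyclic ↥S') :
    ∀ x ∈ S', x ≠ 1 → sigmaCore M ⊓ centralizer ({x} : Set G) =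
      sigmaCore M ⊓ centralizer (S' : Set G) := by
  have hS'p : IsPGroup p S' := isPGroup_of_card_sylCard p hS'c
  have hpE : p ∣ Nat.card E := dvd_card_of_le hS'p hS'1 hS'E
  have hpM : p ∉ sigma M := not_mem_sigma_of_dvd_card_compl hG hM hE hp.out hpE
  have hpK : ¬ p ∣ Nat.card (sigmaCore M) := not_dvd_card_sigmaCore hp.out hpM
  have hS'M : S' ≤ M := hS'E.trans hE.1
  have hS'cM : Nat.card S' = sylCard p M := by rw [hS'c, sylCard_compl hE hpK]
  have hpp : p < p ^ 2 := by
    have := hp.out.one_lt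
    nlinarith
  have hrk : ∀ A : Subgroup G, A ≤ M → IsElementaryAbelian p A → Nat.card A ≠ p ^ 2 := by
    intro A hAM hAe hAc
    obtain ⟨l, -, hl⟩ := exists_conj_le_sylow (isPGroup_of_isElementaryAbelian hAe) hAM hS'M hS'cM
    refine not_isCyclic_of_le hl (isElementaryAbelian_conj hAe l) ?_ hcyc
    rw [card_conj, hAc]; exact hpp
  have hcomm : ∀ a ∈ S', ∀ b ∈ S', a * b = b * a := fun a ha b hb =>
    commute_of_isCyclic hcyc ha hb
  intro x hx hx1
  apply le_antisymm
  · refine le_inf inf_le_left ?_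
    rw [Subgroup.le_centralizer_iff]
    have hS'x : S' ≤ centralizer ({x} : Set G) := by
      intro s hs
      rw [Subgroup.mem_centralizer_iff]
      intro y hy
      rw [Set.mem_singleton_iff.mp hy]
      exact hcomm x hx s hs
    have hAK : S' ≤ normalizer ((sigmaCore M ⊓ centralizer ({x} : Set G) : Subgroup G) : Set G) := by
      apply le_normalizer_of_conj_mem
      intro s hs y hy
      have hy2 : y ∈ centralizer ({x} : Set G) := hy.2
      refine ⟨conj_mem_of_mem_normalizer (le_normalizer_sigmaCore M (hS'M hs)) hy.1, ?_⟩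
      exact Subgroup.mul_mem _ (Subgroup.mul_mem _ (hS'x hs) hy2) (Subgroup.inv_mem _ (hS'x hs))
    have hcop : (Nat.card S').Coprime
        (Nat.card (sigmaCore M ⊓ centralizer ({x} : Set G) : Subgroup G)) :=
      coprime_of_isPGroup_not_dvd hS'p
        (fun hd => hpK (hd.trans (Subgroup.card_dvd_of_le inf_le_left)))
    have hsolv : Group.IsSolvable ↥S' ∨
        Group.IsSolvable ↥(sigmaCore M ⊓ centralizer ({x} : Set G) : Subgroup G) :=
      Or.inr (solv_of_le_coatom hG hM (inf_le_left.trans (sigmaCore_le M)))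
    have hz : IsPGroup p (Subgroup.zpowers x) := hS'p.to_le (Subgroup.zpowers_le.mpr hx)
    have hz1 : Subgroup.zpowers x ≠ ⊥ := by
      intro h
      exact hx1 (Subgroup.zpowers_eq_bot.mp h)
    obtain ⟨X, hXz, hXc⟩ := exists_card_prime_le hz hz1
    have hXS : X ≤ S' := hXz.trans (Subgroup.zpowers_le.mpr hx)
    have hSX : S' ≤ centralizer (X : Set G) := by
      intro s hs
      rw [Subgroup.mem_centralizer_iff]
      intro y hy
      exact hcomm y (hXS hy) s hs
    apply le_centralizer_of_sylowwise hAK hcop hsolv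
    intro q hqf Q hQY hQq hSQ
    have hQX : Q ≤ centralizer (X : Set G) := by
      intro g hg
      rw [Subgroup.mem_centralizer_iff]
      intro y hy
      obtain ⟨k, rfl⟩ := Subgroup.mem_zpowers_iff.mp (hXz hy)
      have hgx : g ∈ centralizer ({x} : Set G) := (hQY hg).2
      rw [Subgroup.mem_centralizer_iff] at hgx
      have hc : Commute x g := hgx x (Set.mem_singleton x)
      exact (hc.zpow_left k).eq
    exact core_h15 hG hM hE hpM hrk hXc hXS hS'M hS'p hSX hQq (hQY.trans inf_le_left) hQX hSQ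
  · exact inf_le_inf_left _ (Subgroup.centralizer_le (Set.singleton_subset_iff.mpr hx))

end Cfsg.Agent.Helper15.BGV
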